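import Groth.Agent.TorusQuotLib.DSPts
import Groth.Agent.S16113
import Groth.Agent.GrpSchLib.Component
import Groth.Agent.ASp.PropDescend
import Groth.Prelude.Def_GmPts

/-!
The characters of a connected smooth group over an algebraically closed field form a free group of finite rank.
-/

set_option autoImplicit false
set_option backward.isDefEq.respectTransparency false
set_option backward.isDefEq.respectTransparency.types false
set_option linter.unusedSectionVars false
set_option linter.style.haveILetI false
set_option maxHeartbeats 1000000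
set_option synthInstance.maxHeartbeats 400000

universe u

open CategoryTheory CategoryTheory.Limits MonoidalCategory CartesianMonoidalCategory MonObj GrpObj AlgebraicGeometry

noncomputable section

attribute [-instance] CategoryTheory.Hom.commGroup

namespace Groth.Agent.TorusQuot

variable {k : Type u} [Field k]

/-- A smooth connected group over a field is integral. -/
theorem isIntegral_grp (G : Over (Spec (CommRingCat.of k))) [GrpObj G] [Smooth G.hom] [ConnectedSpace ↥G.left] :
    IsIntegral G.left := by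
  haveI : IsReduced (Spec (CommRingCat.of k)) := inferInstance
  haveI := ASp.isReduced_of_smooth G.hom
  haveI := GrpSchLib.irreducibleSpace_of_connectedSpace (G := G)
  exact isIntegral_of_irreducibleSpace_of_isReduced G.left

theorem inv_mul_of_comm {α : Type*} [Group α] (x y : α) (h : x * y = y * x) : (x * y)⁻¹ = x⁻¹ * y⁻¹ := by
  rw [h]
  exact _root_.mul_inv_rev y x

/-- The characters of a group. -/
def charGrp (G : Over (Spec (CommRingCat.of k))) [GrpObj G] : Subgroup (G ⟶ Red.Gm (Spec (CommRingCat.of k))) where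
  carrier := {χ | ∀ (T : Over (Spec (CommRingCat.of k))) (a b : T ⟶ G), (a * b) ≫ χ = (a ≫ χ) * (b ≫ χ)}
  one_mem' T a b := by simp only [MonObj.comp_one, _root_.one_mul]
  mul_mem' {χ χ'} h h' T a b := by
    rw [MonObj.comp_mul, MonObj.comp_mul, MonObj.comp_mul, h, h', _root_.mul_assoc, _root_.mul_assoc]
    congr 1
    rw [← _root_.mul_assoc, MultRigid.comm_DS (b ≫ χ) (a ≫ χ'), _root_.mul_assoc]
  inv_mem' {χ} h T a b := by
    rw [GrpObj.comp_inv, GrpObj.comp_inv, GrpObj.comp_inv, h]
    exact inv_mul_of_comm _ _ (MultRigid.comm_DS _ _)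

theorem mem_charGrp {G : Over (Spec (CommRingCat.of k))} [GrpObj G] {χ : G ⟶ Red.Gm (Spec (CommRingCat.of k))} :
    χ ∈ charGrp G ↔ IsMonHom χ :=
  ⟨fun h => GaDualLib.AlphaExt.isMonHom_of_mul χ fun a b => h _ a b, fun h _ a b => by
    haveI := h
    exact MonObj.mul_comp a b χ⟩

/-- The character group is free of finite rank. -/
theorem exists_char_basis [IsAlgClosed k] (G : Over (Spec (CommRingCat.of k))) [GrpObj G] [Smooth G.hom]
    [QuasiCompact G.hom] [ConnectedSpace ↥G.left] :
    ∃ (r : ℕ) (e : Multiplicative (Fin r → ℤ) →* (G ⟶ Red.Gm (Spec (CommRingCat.of k)))), Function.Injective e ∧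
      ∀ χ, IsMonHom χ ↔ χ ∈ e.range := by
  haveI := isIntegral_grp G
  haveI : IsSeparated G.hom := GrpSchLib.isSeparated_hom
  obtain ⟨n, v, -, hv⟩ := S16113.result k G
  let f : charGrp G →* Multiplicative (Fin n → ℤ) :=
    { toFun := fun χ => v (GmPts.unitOfPt χ.1)
      map_one' := by rw [Subgroup.coe_one, GmPts.unitOfPt_one, map_one]
      map_mul' := fun a b => by rw [Subgroup.coe_mul, GmPts.unitOfPt_mul, map_mul] }
  have hf : Function.Injective f := by
    rw [injective_iff_map_eq_one]
    rintro ⟨χ, hχ⟩ h1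
    have h2 : GmPts.unitOfPt χ ∈ v.ker := h1
    rw [hv] at h2
    obtain ⟨c, hc⟩ := h2
    haveI := mem_charGrp.1 hχ
    have h3 : η[G] ≫ χ = 1 := by rw [IsMonHom.one_hom, MonObj.one_eq_one]
    have h4 := congrArg (fun z => (GmPts.unitOfPt z : Γ((𝟙_ (Over (Spec (CommRingCat.of k)))).left, ⊤))) h3
    simp only [GmPts.unitOfPt_comp, GmPts.unitOfPt_one, Units.coe_map, Units.val_one] at h4
    rw [← hc] at h4
    have h5 : η[G].left.appTop (G.hom.appTop ((Scheme.ΓSpecIso (CommRingCat.of k)).inv (c : k))) = 1 := h4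
    rw [← GmPts.appTop_comp_apply, Over.w η[G]] at h5
    have h6 : ((Scheme.ΓSpecIso (CommRingCat.of k)).inv (c : k)) = 1 := h5
    have h7 : (c : k) = 1 := (ConcreteCategory.bijective_of_isIso (Scheme.ΓSpecIso (CommRingCat.of k)).inv).1
      (h6.trans (map_one _).symm)
    refine Subtype.ext ((GmPts.equiv G).injective ?_)
    rw [show ((1 : charGrp G) : G ⟶ Red.Gm (Spec (CommRingCat.of k))) = 1 from rfl, map_one, GmPts.equiv_apply, ← hc,
      show c = 1 from Units.ext h7, map_one]
  let ψ : Additive (charGrp G) →+ (Fin n → ℤ) := MonoidHom.toAdditiveLeft f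
  have hψ : Function.Injective ψ := fun a b h => hf (Multiplicative.toAdd.injective h)
  let R : Submodule ℤ (Fin n → ℤ) := AddSubgroup.toIntSubmodule ψ.range
  obtain ⟨r, b⟩ := Submodule.basisOfPid (Pi.basisFun ℤ (Fin n)) R
  let g : (Fin r → ℤ) ≃+ Additive (charGrp G) :=
    b.equivFun.symm.toAddEquiv.trans (AddMonoidHom.ofInjective hψ).symm
  refine ⟨r, (charGrp G).subtype.comp (AddMonoidHom.toMultiplicativeLeft g.toAddMonoidHom), ?_, fun χ => ?_⟩
  · exact Subtype.val_injective.comp fun a b h =>
      Multiplicative.toAdd.injective (g.injective (Additive.toMul.injective h))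
  · refine ⟨fun h => ⟨Multiplicative.ofAdd (g.symm (Additive.ofMul ⟨χ, mem_charGrp.2 h⟩)), ?_⟩, ?_⟩
    · show ((Additive.toMul (g (g.symm _)) : charGrp G) : G ⟶ _) = χ
      rw [AddEquiv.apply_symm_apply]
      rfl
    · rintro ⟨m, rfl⟩
      exact mem_charGrp.1 (Additive.toMul (g m.toAdd)).2

end Groth.Agent.TorusQuot
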