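import Groth.Agent.TorusQuotLib.Connected
import Groth.Agent.S19598
import Groth.Agent.S4362
import Groth.Agent.GenSubLib.Conj

/-!
The kernel of the universal map to a torus has no characters.
-/

set_option autoImplicit false
set_option backward.isDefEq.respectTransparency false
set_option backward.isDefEq.respectTransparency.types false
set_option linter.unusedSectionVars false
set_option linter.style.haveILetI false
set_option maxHeartbeats 1000000
set_option synthInstance.maxHeartbeats 400000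

universe u

open CategoryTheory CategoryTheory.Limits MonoidalCategory CartesianMonoidalCategory MonObj GrpObj AlgebraicGeometry

noncomputable section

attribute [-instance] CategoryTheory.Hom.commGroup

namespace Groth.Agent.TorusQuot

open MuGLLib TorusField

variable {k : Type u} [Field k]

/-- A finite family of characters is a map to a split diagonalisable group. -/
theorem exists_tuple {H : Over (Spec (CommRingCat.of k))} [GrpObj H] {m : ℕ}
    (ψ : Fin m → (H ⟶ Red.Gm (Spec (CommRingCat.of k)))) (hψ : ∀ i, IsMonHom (ψ i)) :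
    ∃ Φ : H ⟶ Red.DS (Spec (CommRingCat.of k)) (Fin m → ℤ), IsMonHom Φ ∧
      (∀ i, Φ ≫ Red.chi (Spec (CommRingCat.of k)) (Pi.single i 1) = ψ i) ∧
      ∀ (T : Over (Spec (CommRingCat.of k))) (x : T ⟶ H), (∀ i, x ≫ ψ i = 1) → x ≫ Φ = 1 := by
  letI : CommGroup (H ⟶ Red.Gm (Spec (CommRingCat.of k))) :=
    { (inferInstance : Group (H ⟶ Red.Gm (Spec (CommRingCat.of k)))) with mul_comm := MultRigid.comm_DS }
  let f : Multiplicative (Fin m → ℤ) →* (H ⟶ Red.Gm (Spec (CommRingCat.of k))) :=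
    { toFun := fun c => ∏ i, ψ i ^ c.toAdd i
      map_one' := by simp
      map_mul' := fun a b => by simp [zpow_add, Finset.prod_mul_distrib] }
  have hf : ∀ c, f c ∈ charGrp H := fun c =>
    Subgroup.prod_mem _ fun i _ => Subgroup.zpow_mem _ (mem_charGrp.2 (hψ i)) _
  obtain ⟨Φ, hΦ, hΦm⟩ := exists_hom f fun c => mem_charGrp.1 (hf c)
  refine ⟨Φ, hΦ, fun i => ?_, fun T x hx => ext_chi _ _ fun c => ?_⟩
  swap
  · haveI : IsMonHom (Red.chi (Spec (CommRingCat.of k)) c) := DSMapLib.isMonHom_DSmap _ _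
    rw [Category.assoc, hΦm, MonObj.one_comp]
    let W : Subgroup (H ⟶ Red.Gm (Spec (CommRingCat.of k))) :=
      { carrier := {χ | x ≫ χ = 1}
        one_mem' := MonObj.comp_one x
        mul_mem' := fun {a b} (ha : x ≫ a = 1) (hb : x ≫ b = 1) => by
          show x ≫ (a * b) = 1
          rw [MonObj.comp_mul, ha, hb, _root_.one_mul]
        inv_mem' := fun {a} (ha : x ≫ a = 1) => by
          show x ≫ a⁻¹ = 1
          rw [GrpObj.comp_inv, ha, inv_one] }
    exact (Subgroup.prod_mem W fun i _ => Subgroup.zpow_mem _ (hx i) _ : f _ ∈ W)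
  rw [hΦm]
  show ∏ j, ψ j ^ (Pi.single i (1 : ℤ) : Fin m → ℤ) j = ψ i
  rw [Finset.prod_eq_single i (fun j _ hj => by rw [Pi.single_eq_of_ne hj, zpow_zero])
    (fun h => absurd (Finset.mem_univ i) h), Pi.single_eq_same, zpow_one]

/-- A kernel of finitely many members of a family of characters which kills all of them. -/
theorem exists_core {H : Over (Spec (CommRingCat.of k))} [GrpObj H] [LocallyOfFiniteType H.hom] [QuasiCompact H.hom]
    {J : Type*} (ψ : J → (H ⟶ Red.Gm (Spec (CommRingCat.of k)))) (hψ : ∀ j, IsMonHom (ψ j)) :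
    ∃ (m : ℕ) (Φ : H ⟶ Red.DS (Spec (CommRingCat.of k)) (Fin m → ℤ)) (K : Over (Spec (CommRingCat.of k)))
      (_ : GrpObj K) (κ : K ⟶ H), IsMonHom Φ ∧ IsMonHom κ ∧ IsClosedImmersion κ.left ∧ AlgGrp.IsKernel κ Φ ∧
      (∀ j, κ ≫ ψ j = 1) ∧
      (∀ (T : Over (Spec (CommRingCat.of k))) (x : T ⟶ H), (∀ j, x ≫ ψ j = 1) → ∃ z : T ⟶ K, z ≫ κ = x) := by
  haveI : IsNoetherian H.left := by
    haveI : IsLocallyNoetherian H.left := LocallyOfFiniteType.isLocallyNoetherian H.hom
    haveI : CompactSpace ↥H.left := QuasiCompact.compactSpace_of_compactSpace H.hom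
    exact ⟨⟩
  let S : Set H.left.IdealSheafData :=
    {I | ∃ (m : ℕ) (f : Fin m → J) (Φ : H ⟶ Red.DS (Spec (CommRingCat.of k)) (Fin m → ℤ))
      (K : Over (Spec (CommRingCat.of k))) (_ : GrpObj K) (κ : K ⟶ H), IsMonHom Φ ∧ IsMonHom κ ∧
      IsClosedImmersion κ.left ∧ AlgGrp.IsKernel κ Φ ∧ (∀ i, κ ≫ ψ (f i) = 1) ∧
      (∀ (T : Over (Spec (CommRingCat.of k))) (x : T ⟶ H), (∀ i, x ≫ ψ (f i) = 1) → ∃ z : T ⟶ K, z ≫ κ = x) ∧
      κ.left.ker = I}
  have key : ∀ (m : ℕ) (f : Fin m → J), ∃ (Φ : H ⟶ Red.DS (Spec (CommRingCat.of k)) (Fin m → ℤ))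
      (K : Over (Spec (CommRingCat.of k))) (_ : GrpObj K) (κ : K ⟶ H), IsMonHom Φ ∧ IsMonHom κ ∧
      IsClosedImmersion κ.left ∧ AlgGrp.IsKernel κ Φ ∧ (∀ i, κ ≫ ψ (f i) = 1) ∧
      (∀ (T : Over (Spec (CommRingCat.of k))) (x : T ⟶ H), (∀ i, x ≫ ψ (f i) = 1) → ∃ z : T ⟶ K, z ≫ κ = x) :=
    fun m f => by
    obtain ⟨Φ, hΦ, hΦi, hΦ1⟩ := exists_tuple (fun i => ψ (f i)) fun i => hψ _
    haveI := hΦ
    haveI : LocallyOfFiniteType (Red.DS (Spec (CommRingCat.of k)) (Fin m → ℤ)).hom :=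
      MonoFibre.locallyOfFiniteType_DS _ _ inferInstance
    obtain ⟨K, hK, κ, hκ, hκc, hker⟩ := exists_kernel Φ
    refine ⟨Φ, K, hK, κ, hΦ, hκ, hκc, hker, fun i => ?_, fun T x hx => exists_lift_kernel hker (hΦ1 T x hx)⟩
    haveI : IsMonHom (Red.chi (Spec (CommRingCat.of k)) (Pi.single i (1 : ℤ) : Fin m → ℤ)) :=
      DSMapLib.isMonHom_DSmap _ _
    rw [← hΦi, ← Category.assoc, kernel_comp_eq_one hker, MonObj.one_comp]
  haveI := S4362.result H.left
  have hne : S.Nonempty := by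
    obtain ⟨Φ, K, hK, κ, h1, h2, h3, h4, h5, h6⟩ := key 0 Fin.elim0
    exact ⟨_, 0, Fin.elim0, Φ, K, hK, κ, h1, h2, h3, h4, h5, h6, rfl⟩
  obtain ⟨I, hI, hmax⟩ := (IsWellFounded.wf : WellFounded (α := H.left.IdealSheafData) (· > ·)).has_min S hne
  obtain ⟨m, f, Φ, K, hK, κ, hΦ, hκ, hκc, hker, hf, hfac, rfl⟩ := hI
  letI := hK
  haveI := hκc
  refine ⟨m, Φ, K, hK, κ, hΦ, hκ, hκc, hker, fun j => ?_, fun T x hx => hfac T x fun i => hx _⟩
  obtain ⟨Φ', K', hK', κ', hΦ', hκ', hκc', hker', hf', hfac'⟩ := key (m + 1) (Fin.cons j f)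
  haveI := hκc'
  obtain ⟨z, hz⟩ := hfac K' κ' fun i => by simpa using hf' i.succ
  have hle : κ.left.ker ≤ κ'.left.ker := by
    rw [← hz, Over.comp_left]
    exact Scheme.Hom.le_ker_comp _ _
  have heq : κ'.left.ker = κ.left.ker := by
    by_contra hne
    exact hmax _ ⟨m + 1, Fin.cons j f, Φ', K', hK', κ', hΦ', hκ', hκc', hker', hf', hfac', rfl⟩
      (lt_of_le_of_ne hle (Ne.symm hne))
  let l : K ⟶ K' := Over.homMk (IsClosedImmersion.lift κ'.left κ.left heq.le) (by
    rw [← Over.w κ', ← Category.assoc, IsClosedImmersion.lift_fac, Over.w κ])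
  have hl : l ≫ κ' = κ := Over.OverMorphism.ext (IsClosedImmersion.lift_fac _ _ _)
  have hj := hf' 0
  rw [Fin.cons_zero] at hj
  rw [← hl, Category.assoc, hj, MonObj.comp_one]

variable [IsAlgClosed k] (G : Over (Spec (CommRingCat.of k))) [GrpObj G] [Smooth G.hom] [QuasiCompact G.hom]
  [ConnectedSpace ↥G.left] {r : ℕ} (q : G ⟶ Red.DS (Spec (CommRingCat.of k)) (Fin r → ℤ))
  [IsMonHom q] [Flat q.left] [Surjective q.left]
  {H : Over (Spec (CommRingCat.of k))} [GrpObj H] (h : H ⟶ G) [IsMonHom h] [IsClosedImmersion h.left]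

theorem char_eq_one (hh : AlgGrp.IsKernel h q)
    (hu : ∀ χ : G ⟶ Red.Gm (Spec (CommRingCat.of k)), IsMonHom χ →
      ∃ m : Fin r → ℤ, q ≫ Red.chi (Spec (CommRingCat.of k)) m = χ)
    (ψ₀ : H ⟶ Red.Gm (Spec (CommRingCat.of k))) [IsMonHom ψ₀] : ψ₀ = 1 := by
  haveI := isIntegral_grp G
  haveI : IsReduced G.left := inferInstance
  haveI : IsSeparated G.hom := GrpSchLib.isSeparated_hom
  haveI : Mono h := Over.mono_of_mono_left h
  haveI : LocallyOfFiniteType H.hom := by rw [← Over.w h]; infer_instance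
  haveI : QuasiCompact H.hom := by rw [← Over.w h]; infer_instance
  -- conjugation by rational points
  have hc : ∀ g : 𝟙_ (Over (Spec (CommRingCat.of k))) ⟶ G, ∃ c : H ⟶ H,
      c ≫ h = (toUnit H ≫ g) * h * (toUnit H ≫ g)⁻¹ := fun g => by
    obtain ⟨c, hc⟩ := isNormalHom_kernel hh H (toUnit H ≫ g) (𝟙 H)
    rw [Category.id_comp] at hc
    exact ⟨c, hc.symm⟩
  choose c hc using hc
  have hcT : ∀ (g : 𝟙_ (Over (Spec (CommRingCat.of k))) ⟶ G) (T : Over (Spec (CommRingCat.of k))) (x : T ⟶ H),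
      (x ≫ c g) ≫ h = (toUnit T ≫ g) * (x ≫ h) * (toUnit T ≫ g)⁻¹ := fun g T x => by
    rw [Category.assoc, hc, MonObj.comp_mul, MonObj.comp_mul, GrpObj.comp_inv, ← Category.assoc,
      toUnit_unique (x ≫ toUnit H) (toUnit T)]
  have hcmon : ∀ g, IsMonHom (c g) := fun g => GaDualLib.AlphaExt.isMonHom_of_mul (c g) fun {T} a b => by
    rw [← cancel_mono h, MonObj.mul_comp _ _ h, hcT, hcT, hcT, MonObj.mul_comp _ _ h]
    group
  let ψ : (𝟙_ (Over (Spec (CommRingCat.of k))) ⟶ G) → (H ⟶ Red.Gm (Spec (CommRingCat.of k))) := fun g => c g ≫ ψ₀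
  have hψm : ∀ g, IsMonHom (ψ g) := fun g => by haveI := hcmon g; infer_instance
  obtain ⟨m, Φ, K, _, κ, hΦ, hκ, hκc, hker, hkill, hfac⟩ := exists_core ψ hψm
  haveI := hΦ; haveI := hκ; haveI := hκc
  haveI : Mono κ := Over.mono_of_mono_left κ
  haveI : IsClosedImmersion (κ ≫ h).left := by rw [Over.comp_left]; infer_instance
  have hstab : ∀ g (T : Over (Spec (CommRingCat.of k))) (x : T ⟶ K), ∃ z : T ⟶ K, z ≫ κ = x ≫ κ ≫ c g :=
    fun g T x => hfac T _ fun g' => by
      have e : c g ≫ c g' = c (g' * g) := by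
        rw [← cancel_mono h, hcT, hc, hc, MonObj.comp_mul, _root_.mul_inv_rev]
        simp only [_root_.mul_assoc]
      show (x ≫ κ ≫ c g) ≫ c g' ≫ ψ₀ = 1
      rw [Category.assoc, Category.assoc, ← Category.assoc (c g), e]
      show x ≫ κ ≫ ψ (g' * g) = 1
      rw [hkill, MonObj.comp_one]
  have hN : AlgGrp.IsNormalHom (κ ≫ h) := by
    haveI : JacobsonSpace ↥G.left := LocallyOfFiniteType.jacobsonSpace G.hom
    have hd : Dense (⋃ g : 𝟙_ (Over (Spec (CommRingCat.of k))) ⟶ G, Set.range g.left) := by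
      refine (dense_iff_closure_eq.2 (closure_closedPoints (X := G.left))).mono fun x hx => ?_
      obtain ⟨g, hg⟩ := GenSubLib.exists_pt hx
      exact Set.mem_iUnion.2 ⟨g, _, hg⟩
    obtain ⟨Ψ, hΨ⟩ := GenSubLib.exists_lift_tensor (fun g : 𝟙_ (Over (Spec (CommRingCat.of k))) ⟶ G => g) hd
      (fst G K * (snd G K ≫ κ ≫ h) * (fst G K)⁻¹) (κ ≫ h) fun g => by
        obtain ⟨z, hz⟩ := hstab g _ (snd (𝟙_ _) K)
        refine ⟨z, ?_⟩
        rw [← Category.assoc, hz, MonObj.comp_mul, MonObj.comp_mul, GrpObj.comp_inv, whiskerRight_fst,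
          ← Category.assoc (g ▷ K), whiskerRight_snd, Category.assoc, Category.assoc]
        rw [show snd (𝟙_ _) K ≫ κ ≫ c g ≫ h = ((snd (𝟙_ _) K ≫ κ) ≫ c g) ≫ h by simp only [Category.assoc], hcT,
          toUnit_unique (toUnit (𝟙_ (Over (Spec (CommRingCat.of k))) ⊗ K)) (fst _ _), Category.assoc]
    intro T g x
    refine ⟨lift g x ≫ Ψ, ?_⟩
    rw [Category.assoc, hΨ, MonObj.comp_mul, MonObj.comp_mul, GrpObj.comp_inv, lift_fst, lift_snd_assoc]
  obtain ⟨D⟩ := exists_setup G q h hh κ hN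
  haveI : IsSeparated D.Q.hom := GrpSchLib.isSeparated_hom
  haveI : LocallyOfFiniteType D.N.hom := by rw [← Over.w D.n]; infer_instance
  haveI : QuasiCompact D.N.hom := by rw [← Over.w D.n]; infer_instance
  -- the kernel embeds in a diagonalisable group
  let T' := Red.DS (Spec (CommRingCat.of k)) (Fin m → ℤ)
  obtain ⟨u, hu', hpu⟩ := exists_desc_hom D.pN D.kerN Φ (kernel_comp_eq_one hker)
  haveI := hu'
  haveI : Mono u := MaxTorus.mono_of_ker u fun {Y} y hy => by
    haveI := isFpqc_of_field D.pN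
    obtain ⟨Y', e, z, he, hz⟩ := GrpQuotLib.exists_lift_fpqc D.pN y
    haveI := he
    haveI : Epi e := GrpQuotLib.epi_of_isFpqc e
    rw [← cancel_epi e, MonObj.comp_one, hz]
    obtain ⟨w, hw⟩ := exists_lift_kernel hker (x := z) (by
      rw [← hpu, ← Category.assoc, ← hz, Category.assoc, hy, MonObj.comp_one])
    rw [← hw, Category.assoc, kernel_comp_eq_one D.kerN, MonObj.comp_one]
  haveI : IsAffineHom T'.hom := FixedSmooth.isAffineHom_DS _ _
  haveI : IsAffine T'.left := isAffine_of_isAffineHom T'.hom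
  haveI : QuasiCompact u.left := by
    haveI : QuasiCompact (u.left ≫ T'.hom) := by rw [Over.w u]; infer_instance
    exact QuasiCompact.of_comp u.left T'.hom
  haveI : IsClosedImmersion u.left := MonoFibre.isClosedImmersion_of_mono u
  haveI : IsAffine D.N.left := isAffine_of_isAffineHom u.left
  have hNm : SGA3x.IsMultTypeFT D.N := by
    haveI : IsLocallyNoetherian (Spec (CommRingCat.of k)) := inferInstance
    exact S19598.result D.N T' (MultKer.isMultTypeFT_DS _ _) u inferInstance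
      (MonoFibre.flat_to_field (Field.toIsField k) _)
      (LocallyOfFinitePresentation.iff_locallyOfFiniteType.2 inferInstance)
  haveI : Mono D.n := Over.mono_of_mono_left D.n
  have hcomm := D.comm (ConnConj.central_of_normal (MultExtCentral.connected_fibre D.Q) D.n hNm
    (isNormalHom_kernel D.kerP'))
  haveI := D.isAffine
  haveI : IsAffineHom D.Q.hom := inferInstance
  obtain ⟨A, _, _, ⟨eA⟩⟩ := MultBridge.exists_hopf k D.Q
  obtain ⟨A', _, _, ⟨eA'⟩⟩ := MultBridge.exists_hopf k D.N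
  obtain ⟨π, hπ⟩ := exists_bialgHom eA eA' D.n
  haveI : LocallyOfFiniteType (Red.DS (Spec (CommRingCat.of k)) (Fin r → ℤ)).hom :=
    MonoFibre.locallyOfFiniteType_DS _ _ inferInstance
  obtain ⟨l, hl⟩ := D.exists_retraction hh hu hcomm eA fun x hx =>
    MultExtCentral.primitive_eq_zero_of_ext D.N D.Q _ D.n D.p' D.kerP'
      (SplitHom.isMultTypeFT_of_isTorus isTorus_DS) eA eA' π hπ x hx
      (CommUnip.primitive_eq_zero_of_multType (MultExtCentral.isMultTypeConst_of_FT hNm eA') (π x) (by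
        rw [← CoalgHomClass.map_comp_comul_apply π x, hx, map_add, TensorProduct.map_tmul, TensorProduct.map_tmul]
        simp))
  have h1 : c 1 = 𝟙 H := by
    rw [← cancel_mono h, hc, MonObj.comp_one, inv_one, _root_.one_mul, _root_.mul_one, Category.id_comp]
  have h2 := hkill 1
  simp only [ψ, h1, Category.id_comp] at h2
  rw [← Category.id_comp ψ₀, ← hl, Category.assoc, h2, MonObj.comp_one]

end Groth.Agent.TorusQuot
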