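import Groth.Agent.TorusQuotLib.Setup
import Groth.Agent.Neutral.Field
import Groth.Agent.S8036
import Groth.Agent.S8033
import Groth.Agent.S5353
import Groth.Agent.EtNormalTorusLib.Main
import Groth.Agent.MonoFibre.HomFlat
import Groth.Agent.Unibranch.Open

/-!
The kernel of the universal map to a torus is connected.
-/

set_option autoImplicit false
set_option backward.isDefEq.respectTransparency false
set_option backward.isDefEq.respectTransparency.types false
set_option linter.unusedSectionVars false
set_option linter.style.haveILetI false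
set_option maxHeartbeats 1000000
set_option synthInstance.maxHeartbeats 400000

universe u

open CategoryTheory CategoryTheory.Limits MonoidalCategory CartesianMonoidalCategory MonObj GrpObj AlgebraicGeometry

noncomputable section

attribute [-instance] CategoryTheory.Hom.commGroup

namespace Groth.Agent.TorusQuot

open MuGLLib TorusField

variable {k : Type u} [Field k]

/-- The map of coordinate rings of a homomorphism of affine groups. -/
theorem exists_bialgHom {A A' : Type u} [CommRing A] [HopfAlgebra k A] [CommRing A'] [HopfAlgebra k A']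
    {H H' : Over (Spec (CommRingCat.of k))} [GrpObj H] [GrpObj H'] (eA : specGrp k A ≅ Grp.mk H)
    (eA' : specGrp k A' ≅ Grp.mk H') (m : H' ⟶ H) [IsMonHom m] :
    ∃ π : A →ₐc[k] A', eA'.hom.hom.hom ≫ m = wmap (π : A →ₐ[k] A') ≫ eA.hom.hom.hom := by
  let FF := hopfSpec.fullyFaithful (R := CommRingCat.of k)
  let fπ : (hopfSpec (CommRingCat.of k)).obj (Opposite.op (CommHopfAlgCat.of k A')) ⟶
      (hopfSpec (CommRingCat.of k)).obj (Opposite.op (CommHopfAlgCat.of k A)) :=
    eA'.hom ≫ Grp.homMk (A := Grp.mk H') (B := Grp.mk H) m ≫ eA.inv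
  obtain ⟨π₀, hπ₀⟩ : ∃ z, (hopfSpec (CommRingCat.of k)).map z = fπ := ⟨FF.preimage fπ, FF.map_preimage _⟩
  refine ⟨π₀.unop.hom, ?_⟩
  have h := congrArg (fun f => f.hom.hom) (congrArg (· ≫ eA.hom) hπ₀)
  simp only [fπ, Category.assoc, Iso.inv_hom_id, Category.comp_id] at h
  exact h.symm

/-- The underlying scheme of a coordinate ring. -/
theorem exists_isoSpec {A : Type u} [CommRing A] [HopfAlgebra k A] {H : Over (Spec (CommRingCat.of k))} [GrpObj H]
    (eA : specGrp k A ≅ Grp.mk H) : Nonempty (H.left ≅ Spec (CommRingCat.of A)) :=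
  ⟨((Over.forget _).mapIso ((Grp.forget _).mapIso eA)).symm⟩

variable [IsAlgClosed k] (G : Over (Spec (CommRingCat.of k))) [GrpObj G] [Smooth G.hom] [QuasiCompact G.hom]
  [ConnectedSpace ↥G.left] {r : ℕ} (q : G ⟶ Red.DS (Spec (CommRingCat.of k)) (Fin r → ℤ))
  [IsMonHom q] [Flat q.left] [Surjective q.left]
  {H : Over (Spec (CommRingCat.of k))} [GrpObj H] (h : H ⟶ G) [IsMonHom h] [IsClosedImmersion h.left]

theorem connectedSpace_kernel (hh : AlgGrp.IsKernel h q)
    (hu : ∀ χ : G ⟶ Red.Gm (Spec (CommRingCat.of k)), IsMonHom χ →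
      ∃ m : Fin r → ℤ, q ≫ Red.chi (Spec (CommRingCat.of k)) m = χ) : ConnectedSpace ↥H.left := by
  haveI := isIntegral_grp G
  haveI : IsReduced G.left := inferInstance
  haveI : Mono h := Over.mono_of_mono_left h
  haveI : LocallyOfFiniteType H.hom := by rw [← Over.w h]; infer_instance
  haveI : QuasiCompact H.hom := by rw [← Over.w h]; infer_instance
  obtain ⟨H₀, _, incl, hin, hinclc, hinclf, hinclr, hgi, -⟩ := Neutral.exists_neutralSubgroup H
  haveI := hin; haveI := hinclc; haveI := hinclf
  haveI : IsLocallyNoetherian H.left := LocallyOfFiniteType.isLocallyNoetherian H.hom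
  haveI : LocallyOfFinitePresentation incl.left := LocallyOfFinitePresentation.iff_locallyOfFiniteType.2 inferInstance
  haveI : IsOpenImmersion incl.left := IsOpenImmersion.of_flat_of_mono incl.left
  haveI : LocallyOfFiniteType H₀.hom := by rw [← Over.w incl]; infer_instance
  haveI : QuasiCompact H₀.hom := by rw [← Over.w incl]; infer_instance
  haveI : ConnectedSpace ↥H₀.left := by
    have hc : _root_.IsConnected (Set.range incl.left) := hinclr ▸ isConnected_connectedComponent
    rw [connectedSpace_iff_univ]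
    refine ⟨?_, incl.left.isEmbedding.isInducing.isPreconnected_image.1 (by rw [Set.image_univ]; exact hc.2)⟩
    obtain ⟨-, ⟨z, -⟩⟩ := hc.1
    exact ⟨z, trivial⟩
  haveI : IsClosedImmersion (incl ≫ h).left := by rw [Over.comp_left]; infer_instance
  have hN : AlgGrp.IsNormalHom (incl ≫ h) := S8036.result k G H H₀ h (isNormalHom_kernel hh) incl fun L _ _ α hα => by
    haveI := hα
    exact S8033.result k H H₀ incl L α
  obtain ⟨D⟩ := exists_setup G q h hh incl hN
  haveI : IsSeparated D.Q.hom := GrpSchLib.isSeparated_hom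
  haveI : IsSeparated D.N.hom := GrpSchLib.isSeparated_hom
  haveI : Flat H.hom := MonoFibre.flat_to_field (Field.toIsField k) H.hom
  haveI : Etale D.N.hom := S5353.result k H₀ H D.N incl (IsLocalRing.closedPoint k) hinclr D.pN D.kerN
  haveI : QuasiCompact D.N.hom := by rw [← Over.w D.n]; infer_instance
  haveI : LocallyQuasiFinite D.N.hom := Unibranch.locallyQuasiFinite_of_etale D.N.hom
  haveI : IsFinite D.N.hom := IsFinite.of_locallyQuasiFinite _
  haveI : IsAffine D.N.left := isAffine_of_isAffineHom D.N.hom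
  haveI : Mono D.n := Over.mono_of_mono_left D.n
  have hc : ∀ (T : Over (Spec (CommRingCat.of k))) (g : T ⟶ D.Q) (z : T ⟶ D.N),
      g * (z ≫ D.n) = (z ≫ D.n) * g := by
    have hnor := isNormalHom_kernel D.kerP'
    obtain ⟨φ, hφ⟩ := hnor (D.Q ⊗ D.N) (fst _ _) (snd _ _)
    haveI : IsReduced (D.Q ⊗ D.N).left := by
      haveI : Smooth (pullback.fst D.Q.hom D.N.hom) := MorphismProperty.pullback_fst _ _ inferInstance
      exact ASp.isReduced_of_smooth (pullback.fst D.Q.hom D.N.hom)
    haveI : LocallyOfFiniteType (D.Q ⊗ D.N).hom := by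
      show LocallyOfFiniteType (pullback.fst D.Q.hom D.N.hom ≫ D.Q.hom)
      infer_instance
    have hφ' : φ = snd _ _ := ext_pts fun x => by
      have h1 := congrArg (x ≫ ·) hφ
      simp only [MonObj.comp_mul, GrpObj.comp_inv] at h1
      rw [← cancel_mono D.n, Category.assoc, ← h1]
      have h2 := congrArg ((x ≫ fst D.Q D.N) ≫ ·)
        (EtNormalTorusLib.commute_pt D.n hnor (𝟙 D.Q) (x ≫ snd D.Q D.N))
      simp only [MonObj.comp_mul, GrpObj.comp_inv, Category.comp_id] at h2
      rw [← Category.assoc (x ≫ fst D.Q D.N) (toUnit D.Q),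
        toUnit_unique ((x ≫ fst D.Q D.N) ≫ toUnit D.Q) (𝟙 _), Category.id_comp, Category.assoc] at h2
      simpa only [Category.assoc] using h2
    intro T g z
    have h3 := congrArg (lift g z ≫ ·) hφ
    simp only [MonObj.comp_mul, GrpObj.comp_inv, hφ', lift_fst, lift_snd_assoc, lift_snd] at h3
    exact mul_inv_eq_iff_eq_mul.1 h3
  have hcomm := D.comm hc
  haveI := D.isAffine
  haveI : IsAffineHom D.Q.hom := inferInstance
  obtain ⟨A, _, _, ⟨eA⟩⟩ := MultBridge.exists_hopf k D.Q
  obtain ⟨A', _, _, ⟨eA'⟩⟩ := MultBridge.exists_hopf k D.N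
  haveI : Module.Finite k A' := by
    have h1 := MultBridge.prop_algebraMap eA' @IsFinite inferInstance
    rw [IsFinite.SpecMap_iff] at h1
    exact RingHom.finite_algebraMap.1 h1
  haveI : _root_.IsReduced A' := by
    haveI : IsReduced D.N.left := ASp.isReduced_of_smooth D.N.hom
    obtain ⟨e⟩ := exists_isoSpec eA'
    haveI : IsReduced (Spec (CommRingCat.of A')) := isReduced_of_isOpenImmersion e.inv
    exact (affine_isReduced_iff (CommRingCat.of A')).1 inferInstance
  haveI : IsDomain A := by
    haveI := GrpSchLib.irreducibleSpace_of_connectedSpace (G := D.Q)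
    haveI : IsIntegral D.Q.left := isIntegral_of_irreducibleSpace_of_isReduced D.Q.left
    obtain ⟨e⟩ := exists_isoSpec eA
    haveI : Nonempty ↥(Spec (CommRingCat.of A)) := ⟨e.hom (Classical.arbitrary _)⟩
    haveI : IsIntegral (Spec (CommRingCat.of A)) := isIntegral_of_isOpenImmersion e.inv
    exact (affine_isIntegral_iff (CommRingCat.of A)).1 inferInstance
  obtain ⟨π, hπ⟩ := exists_bialgHom eA eA' D.n
  haveI : LocallyOfFiniteType (Red.DS (Spec (CommRingCat.of k)) (Fin r → ℤ)).hom :=
    MonoFibre.locallyOfFiniteType_DS _ _ inferInstance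
  obtain ⟨l, hl⟩ := D.exists_retraction hh hu hcomm eA fun x hx => primitive_eq_zero_of_finite π
    (fun y hy hπy => MultExtCentral.primitive_eq_zero_of_ext D.N D.Q _ D.n D.p' D.kerP'
      (SplitHom.isMultTypeFT_of_isTorus isTorus_DS) eA eA' π hπ y hy hπy) x hx
  haveI : Surjective incl.left := ⟨fun z => ⟨l.left z, by
    rw [← Scheme.Hom.comp_apply, ← Over.comp_left, hl]; rfl⟩⟩
  exact incl.left.surjective.connectedSpace incl.left.continuous

end Groth.Agent.TorusQuot
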