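import Groth.Agent.DSMapLib.Pts
import Groth.Agent.DSMapLib.Exact
import Groth.Agent.MultRigidLib.Family
import Groth.Agent.GaDualLib.AlphaExt

/-!
Points of diagonalisable groups with values in arbitrary schemes, as families of characters.
-/

set_option autoImplicit false
set_option backward.isDefEq.respectTransparency false
set_option backward.isDefEq.respectTransparency.types false
set_option linter.unusedSectionVars false
set_option linter.style.haveILetI false
set_option maxHeartbeats 1000000
set_option synthInstance.maxHeartbeats 400000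

universe u

open CategoryTheory CategoryTheory.Limits MonoidalCategory CartesianMonoidalCategory MonObj GrpObj AlgebraicGeometry

noncomputable section

attribute [-instance] CategoryTheory.Hom.commGroup

namespace Groth.Agent.TorusQuot

open DSMapLib

variable {S : Scheme.{u}} {M : Type} [AddCommGroup M]

/-- The group structure of the multiplicative group, found at a general base. -/
instance (priority := 10000) grpObjGm (S : Scheme.{u}) : GrpObj (Red.Gm S) := inferInstance

/-- The group structure of a diagonalisable group, found at a general base. -/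
instance (priority := 9000) grpObjDS (S : Scheme.{u}) (M : Type) [AddCommGroup M] : GrpObj (Red.DS S M) := inferInstance

/-- Points of `D(M)` with the same characters are equal. -/
theorem ext_chi {X : Over S} (v v' : X ⟶ Red.DS S M) (h : ∀ m : M, v ≫ Red.chi S m = v' ≫ Red.chi S m) : v = v' := by
  refine FixedSmooth.hom_ext_affine _ _ fun B q w => ?_
  obtain ⟨χ, hχ⟩ := (dsPt M q).surjective (w ≫ v)
  obtain ⟨χ', hχ'⟩ := (dsPt M q).surjective (w ≫ v')
  rw [← hχ, ← hχ']
  congr 1
  ext m
  have h1 : dsPt M q χ ≫ Red.chi S m = dsPt M q χ' ≫ Red.chi S m := by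
    rw [hχ, hχ', Category.assoc, Category.assoc, h]
  rw [Red.chi, dsPt_comp, dsPt_comp] at h1
  simpa using DFunLike.congr_fun ((dsPt ℤ _).injective h1) (Multiplicative.ofAdd (1 : ℤ))

/-- A family of characters is a point of `D(M)`. -/
theorem exists_point {X : Over S} (f : Multiplicative M →* (X ⟶ Red.Gm S)) :
    ∃ v : X ⟶ Red.DS S M, ∀ m : M, v ≫ Red.chi S m = f (Multiplicative.ofAdd m) := by
  let 𝒰 := X.left.affineOpenCover
  let q : ∀ i, Spec (𝒰.X i) ⟶ S := fun i => 𝒰.f i ≫ X.hom
  let w : ∀ i, Over.mk (q i) ⟶ X := fun i => Over.homMk (𝒰.f i) rfl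
  let χ : ∀ i, Multiplicative M →* 𝒰.X i := fun i =>
    { toFun := fun m => (dsPt ℤ (q i)).symm (w i ≫ f m) (Multiplicative.ofAdd 1)
      map_one' := by simp only [map_one, MonObj.comp_one, MonoidHom.one_apply]
      map_mul' := fun a b => by simp only [map_mul, MonObj.comp_mul, MonoidHom.mul_apply] }
  have hχ : ∀ i (m : M), dsPt M (q i) (χ i) ≫ Red.chi S m = w i ≫ f (Multiplicative.ofAdd m) := fun i m => by
    rw [Red.chi, dsPt_comp, ← (dsPt ℤ (q i)).apply_symm_apply (w i ≫ f (Multiplicative.ofAdd m))]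
    congr 1
    apply MonoidHom.ext_mint
    show (χ i) (Multiplicative.ofAdd ((1 : ℤ) • m)) = _
    rw [one_zsmul]
    rfl
  let c : ∀ i, Over.mk (q i) ⟶ Red.DS S M := fun i => dsPt M (q i) (χ i)
  let z : X.left ⟶ (Red.DS S M).left := 𝒰.openCover.glueMorphisms (fun i => (c i).left) (fun i j => by
    let Z : Over S := Over.mk (pullback.fst (𝒰.f i) (𝒰.f j) ≫ q i)
    let a : Z ⟶ Over.mk (q i) := Over.homMk (pullback.fst (𝒰.f i) (𝒰.f j)) rfl
    let b : Z ⟶ Over.mk (q j) := Over.homMk (pullback.snd (𝒰.f i) (𝒰.f j)) (pullback.condition_assoc X.hom).symm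
    have hab : a ≫ w i = b ≫ w j := Over.OverMorphism.ext pullback.condition
    have h : a ≫ c i = b ≫ c j := ext_chi _ _ fun m => by
      rw [Category.assoc, Category.assoc, hχ, hχ, ← Category.assoc, ← Category.assoc, hab]
    exact congrArg Over.Hom.left h)
  have hz : ∀ i, 𝒰.f i ≫ z = (c i).left := fun i => 𝒰.openCover.ι_glueMorphisms _ _ i
  let v : X ⟶ Red.DS S M := Over.homMk z (𝒰.openCover.hom_ext _ _ fun i => by
    show 𝒰.f i ≫ z ≫ _ = 𝒰.f i ≫ X.hom
    rw [← Category.assoc, hz, Over.w (c i)]
    rfl)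
  have hv : ∀ i, w i ≫ v = c i := fun i => Over.OverMorphism.ext (hz i)
  refine ⟨v, fun m => Over.OverMorphism.ext (𝒰.openCover.hom_ext _ _ fun i => ?_)⟩
  exact congrArg Over.Hom.left (show w i ≫ v ≫ Red.chi S m = w i ≫ f (Multiplicative.ofAdd m) by
    rw [← Category.assoc, hv, hχ])

/-- A family of characters of a group is a homomorphism to `D(M)`. -/
theorem exists_hom {G : Over S} [GrpObj G] (f : Multiplicative M →* (G ⟶ Red.Gm S)) (hf : ∀ m, IsMonHom (f m)) :
    ∃ u : G ⟶ Red.DS S M, IsMonHom u ∧ ∀ m : M, u ≫ Red.chi S m = f (Multiplicative.ofAdd m) := by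
  obtain ⟨u, hu⟩ := exists_point f
  refine ⟨u, GaDualLib.AlphaExt.isMonHom_of_mul u fun a b => ext_chi _ _ fun m => ?_, hu⟩
  haveI : IsMonHom (Red.chi S m) := isMonHom_DSmap _ _
  haveI := hf (Multiplicative.ofAdd m)
  rw [MonObj.mul_comp _ _ (Red.chi S m), Category.assoc, Category.assoc, Category.assoc, hu, MonObj.mul_comp]

end Groth.Agent.TorusQuot
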