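import Groth.Agent.MultExtCentralLib.MultType
import Groth.Agent.TorusQuotLib.DSPts

/-!
Commutative groups without primitive elements are detected by characters.
-/

set_option autoImplicit false
set_option backward.isDefEq.respectTransparency false
set_option backward.isDefEq.respectTransparency.types false
set_option linter.unusedSectionVars false
set_option linter.style.haveILetI false
set_option maxHeartbeats 1000000
set_option synthInstance.maxHeartbeats 400000

universe u

open CategoryTheory CategoryTheory.Limits MonoidalCategory CartesianMonoidalCategory MonObj GrpObj AlgebraicGeometry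
open TensorProduct WithConv
open scoped TensorProduct

noncomputable section

attribute [-instance] CategoryTheory.Hom.commGroup

namespace Groth.Agent.TorusQuot

open MuGLLib TorusField MultExtCentral

variable {k : Type u} [Field k] [IsAlgClosed k]

omit [IsAlgClosed k] in
/-- The counit kills primitive elements. -/
theorem counit_primitive {A : Type u} [CommRing A] [HopfAlgebra k A] (x : A)
    (hx : Coalgebra.comul (R := k) x = x ⊗ₜ[k] (1 : A) + (1 : A) ⊗ₜ[k] x) : Coalgebra.counit (R := k) x = 0 := by
  have h : ((1 : WithConv (A →ₐ[k] k)) * 1).ofConv x = (1 : WithConv (A →ₐ[k] k)).ofConv x := by rw [_root_.one_mul]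
  rw [AlgHom.convMul_apply, hx] at h
  simp only [map_add, Algebra.TensorProduct.lift_tmul, map_one, _root_.mul_one,
    _root_.one_mul, AlgHom.convOne_apply, Algebra.algebraMap_self, RingHom.id_apply] at h
  exact left_eq_add.1 h.symm

/-- Without primitive elements the coordinate ring is spanned by group-like elements. -/
theorem mem_span_groupLike {A : Type u} [CommRing A] [HopfAlgebra k A] [Coalgebra.IsCocomm k A]
    (hprim : ∀ x : A, Coalgebra.comul (R := k) x = x ⊗ₜ[k] (1 : A) + (1 : A) ⊗ₜ[k] x → x = 0) (z : A) :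
    z ∈ Submodule.span k {g : A | IsGroupLikeElem k g} := by
  refine (Submodule.span_le.2 ?_) (CommUnip.exists_split z)
  rintro _ ⟨g, b, n, hg, hb, rfl⟩
  obtain ⟨r, hr⟩ := CommUnip.exists_const_of_mem_fil_one (CommUnip.fil_eq_one_of_no_primitive hprim hb)
  rw [hr, mul_smul_comm, _root_.mul_one]
  exact Submodule.smul_mem _ r (Submodule.subset_span hg)

/-- A point killed by all characters is trivial. -/
theorem eq_one_of_chars {H : Over (Spec (CommRingCat.of k))} [GrpObj H]
    (hcomm : ∀ (T : Over (Spec (CommRingCat.of k))) (a b : T ⟶ H), a * b = b * a)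
    {A : Type u} [CommRing A] [HopfAlgebra k A] (eA : specGrp k A ≅ Grp.mk H)
    (hprim : ∀ x : A, Coalgebra.comul (R := k) x = x ⊗ₜ[k] (1 : A) + (1 : A) ⊗ₜ[k] x → x = 0)
    {X : Over (Spec (CommRingCat.of k))} (w : X ⟶ H)
    (h : ∀ χ : H ⟶ Red.Gm (Spec (CommRingCat.of k)), IsMonHom χ → w ≫ χ = 1) : w = 1 := by
  let a : W k A ⟶ H := eA.hom.hom.hom
  haveI : IsMonHom a := eA.hom.hom.isMonHom_hom
  haveI : IsIso a := ((Grp.forget _).mapIso eA).isIso_hom
  haveI : Coalgebra.IsCocomm k A := isCocomm_of_points fun T x y => by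
    apply (cancel_mono a).1
    rw [MonObj.mul_comp, MonObj.mul_comp]
    exact hcomm _ _ _
  refine FixedSmooth.hom_ext_affine _ _ fun B q v => ?_
  rw [MonObj.comp_one]
  obtain ⟨φ, rfl⟩ := Spec.map_surjective q
  letI : Algebra k B := φ.hom.toAlgebra
  let x : W k B ⟶ H := v ≫ w
  show x = 1
  obtain ⟨α, hα⟩ := exists_wmap (x ≫ inv a)
  suffices hα1 : toConv α = 1 by
    have h1 : wmap α = 1 := by rw [← mapMulEquiv_apply, hα1, map_one]
    rw [hα] at h1
    rw [← Category.comp_id x, ← IsIso.inv_hom_id a, ← Category.assoc, h1, MonObj.one_comp]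
  have hgl : ∀ g : A, IsGroupLikeElem k g → α g = 1 := fun g hg => by
    let l : MonoidAlgebra k (Multiplicative ℤ) →ₐ[k] A := MonoidAlgebra.lift k A (Multiplicative ℤ)
      ((Units.coeHom A).comp (zpowersHom Aˣ hg.isUnit.unit))
    have hgln : ∀ n : ℤ, IsGroupLikeElem k ((hg.isUnit.unit ^ n : Aˣ) : A) := fun n => by
      induction n using Int.induction_on with
      | zero => simpa using IsGroupLikeElem.one
      | succ i hi =>
        rw [zpow_add_one, Units.val_mul]
        exact hi.mul hg
      | pred i hi =>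
        rw [zpow_sub_one, Units.val_mul]
        refine hi.mul ?_
        have h1 := hg.antipode_mul_cancel
        have h2 : ((hg.isUnit.unit⁻¹ : Aˣ) : A) = HopfAlgebra.antipode k g :=
          Units.inv_eq_of_mul_eq_one_left (by simpa using h1)
        rw [h2]
        exact hg.antipode
    have hsingle : ∀ m : Multiplicative ℤ, l (MonoidAlgebra.single m 1) = ((hg.isUnit.unit ^ m.toAdd : Aˣ) : A) :=
      fun m => by simp [l]
    let χ₀ : MonoidAlgebra k (Multiplicative ℤ) →ₐc[k] A := BialgHom.ofAlgHom l
      (MonoidAlgebra.algHom_ext (fun m => by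
        simp only [AlgHom.comp_apply, Bialgebra.counitAlgHom_apply, hsingle, (hgln _).counit_eq_one,
          MonoidAlgebra.counit_single]
        simp) (by ext))
      (MonoidAlgebra.algHom_ext (fun m => by
        simp only [AlgHom.comp_apply, Bialgebra.comulAlgHom_apply, hsingle, (hgln _).comul_eq_tmul_self,
          MonoidAlgebra.comul_single]
        simp [hsingle]) (by ext))
    let χ := (eA.inv ≫ specHom χ₀ ≫ (dsIso k ℤ).inv).hom.hom
    have hχ := h χ (eA.inv ≫ specHom χ₀ ≫ (dsIso k ℤ).inv).hom.isMonHom_hom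
    have hχ' : x ≫ χ = 1 := by
      show (v ≫ w) ≫ χ = 1
      rw [Category.assoc, hχ, MonObj.comp_one]
    let d := (dsIso k ℤ).inv.hom.hom
    haveI : IsMonHom d := (dsIso k ℤ).inv.hom.isMonHom_hom
    haveI : IsIso d := ((Grp.forget _).mapIso (dsIso k ℤ)).isIso_inv
    have h2 : wmap (α.comp l) ≫ d = 1 := by
      rw [← wmap_comp, hα, ← hχ']
      show ((x ≫ inv a) ≫ wmap l) ≫ d = x ≫ (eA.inv.hom.hom ≫ wmap l ≫ d)
      rw [show eA.inv.hom.hom = inv a from IsIso.eq_inv_of_hom_inv_id
        (congrArg (fun f => f.hom.hom) eA.hom_inv_id)]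
      simp only [Category.assoc]
    have h3 : wmap (α.comp l) = 1 := (cancel_mono d).1 (h2.trans (MonObj.one_comp d).symm)
    have h4 : toConv (α.comp l) = 1 := (Spec.mapMulEquiv (R := k)).injective (by
      rw [mapMulEquiv_apply, h3, map_one])
    have h5 := congr(($h4).ofConv (MonoidAlgebra.single (Multiplicative.ofAdd (1 : ℤ)) 1))
    simpa [AlgHom.convOne_apply, hsingle] using h5
  apply WithConv.ofConv_injective
  refine AlgHom.ext fun z => ?_
  show α z = _
  induction mem_span_groupLike hprim z using Submodule.span_induction with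
  | mem g hg => rw [hgl g hg, AlgHom.convOne_apply, hg.counit_eq_one, map_one]
  | zero => simp only [map_zero]
  | add y y' _ _ hy hy' => simp only [map_add, hy, hy']
  | smul c y _ hy => simp only [map_smul, hy]

/-- Over an integral group a primitive element is zero if those dying on a finite reduced subgroup are. -/
theorem primitive_eq_zero_of_finite {A A' : Type u} [CommRing A] [IsDomain A] [HopfAlgebra k A] [CommRing A']
    [HopfAlgebra k A'] [Module.Finite k A'] [IsReduced A'] (π : A →ₐc[k] A')
    (h : ∀ x : A, Coalgebra.comul (R := k) x = x ⊗ₜ[k] (1 : A) + (1 : A) ⊗ₜ[k] x → π x = 0 → x = 0)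
    (x : A) (hx : Coalgebra.comul (R := k) x = x ⊗ₜ[k] (1 : A) + (1 : A) ⊗ₜ[k] x) : x = 0 := by
  classical
  haveI : Finite (A' →ₐ[k] k) := Finite.algHom k A' k
  have := Fintype.ofFinite (A' →ₐ[k] k)
  let val : (A' →ₐ[k] k) → k := fun f => f (π x)
  let S : Finset k := Finset.univ.image val
  have hπ : Coalgebra.comul (R := k) (π x) = π x ⊗ₜ[k] (1 : A') + (1 : A') ⊗ₜ[k] π x := by
    rw [← CoalgHomClass.map_comp_comul_apply π x, hx, map_add, TensorProduct.map_tmul, TensorProduct.map_tmul]
    simp
  have hε : Coalgebra.counit (R := k) (π x) = 0 := counit_primitive _ hπ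
  have h0 : (0 : k) ∈ S := Finset.mem_image.2 ⟨Bialgebra.counitAlgHom k A', Finset.mem_univ _, hε⟩
  have hadd : ∀ s ∈ S, ∀ t ∈ S, s + t ∈ S := by
    intro s hs t ht
    obtain ⟨f, -, rfl⟩ := Finset.mem_image.1 hs
    obtain ⟨g, -, rfl⟩ := Finset.mem_image.1 ht
    refine Finset.mem_image.2 ⟨(toConv f * toConv g).ofConv, Finset.mem_univ _, ?_⟩
    show ((toConv f * toConv g).ofConv) (π x) = f (π x) + g (π x)
    rw [AlgHom.convMul_apply, hπ]
    simp
  let P : Polynomial k := ∏ s ∈ S, (Polynomial.X - Polynomial.C s)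
  have hroot : ∀ s ∈ S, P.eval s = 0 := fun s hs => by
    simp only [P, Polynomial.eval_prod]
    exact Finset.prod_eq_zero hs (by simp)
  have hmonic : P.Monic := Polynomial.monic_prod_of_monic _ _ fun s _ => Polynomial.monic_X_sub_C s
  have hdeg : P.natDegree = S.card := by simp [P]
  have hshift : ∀ t : k, t ∈ S → P.comp (Polynomial.X + Polynomial.C t) = P := fun t ht => by
    rw [← sub_eq_zero]
    refine Polynomial.eq_zero_of_degree_lt_of_eval_finset_eq_zero S ?_ fun s hs => ?_
    · refine lt_of_lt_of_eq (Polynomial.degree_sub_lt (by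
        rw [Polynomial.degree_eq_natDegree hmonic.ne_zero,
          Polynomial.degree_eq_natDegree (hmonic.comp_X_add_C t).ne_zero, Polynomial.natDegree_comp]
        simp) (hmonic.comp_X_add_C t).ne_zero (by rw [hmonic.leadingCoeff, (hmonic.comp_X_add_C t).leadingCoeff]))
        ?_
      rw [Polynomial.degree_eq_natDegree (hmonic.comp_X_add_C t).ne_zero, Polynomial.natDegree_comp, hdeg]
      simp
    · simp [hroot s hs, hroot _ (hadd s hs t ht)]
  have hPadd : ∀ y z : k, P.eval (y + z) = P.eval y + P.eval z := fun y z => by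
    have h2 : P.comp (Polynomial.X + Polynomial.C z) - P - Polynomial.C (P.eval z) = 0 := by
      refine Polynomial.eq_zero_of_degree_lt_of_eval_finset_eq_zero S ?_ fun s hs => ?_
      · refine lt_of_le_of_lt (Polynomial.degree_sub_le _ _) (max_lt ?_ ?_)
        · refine lt_of_lt_of_eq (Polynomial.degree_sub_lt (by
            rw [Polynomial.degree_eq_natDegree hmonic.ne_zero,
              Polynomial.degree_eq_natDegree (hmonic.comp_X_add_C z).ne_zero, Polynomial.natDegree_comp]
            simp) (hmonic.comp_X_add_C z).ne_zero (by rw [hmonic.leadingCoeff, (hmonic.comp_X_add_C z).leadingCoeff]))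
            ?_
          rw [Polynomial.degree_eq_natDegree (hmonic.comp_X_add_C z).ne_zero, Polynomial.natDegree_comp, hdeg]
          simp
        · exact lt_of_le_of_lt Polynomial.degree_C_le (by exact_mod_cast Finset.card_pos.2 ⟨0, h0⟩)
      · have h3 := congrArg (Polynomial.eval z) (hshift s hs)
        simp only [Polynomial.eval_comp, Polynomial.eval_add, Polynomial.eval_X, Polynomial.eval_C] at h3
        simp [hroot s hs, add_comm s z, h3]
    have h4 := congrArg (Polynomial.eval y) h2
    simp at h4
    linear_combination h4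
  have hId : Polynomial.aeval (MvPolynomial.X (0 : Fin 2) + MvPolynomial.X 1 : MvPolynomial (Fin 2) k) P =
      Polynomial.aeval (MvPolynomial.X (0 : Fin 2)) P + Polynomial.aeval (MvPolynomial.X (1 : Fin 2)) P :=
    MvPolynomial.funext fun v => by
      have e : ∀ z : MvPolynomial (Fin 2) k, MvPolynomial.eval v (Polynomial.aeval z P) = P.eval (MvPolynomial.eval v z) :=
        fun z => by
          have h6 := (Polynomial.aeval_algHom_apply (MvPolynomial.aeval v) z P).symm
          rw [Polynomial.coe_aeval_eq_eval] at h6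
          rw [← MvPolynomial.coe_aeval_eq_eval]
          exact h6
      rw [map_add, e, e, e, map_add, MvPolynomial.eval_X, MvPolynomial.eval_X, hPadd]
  let y := Polynomial.aeval x P
  have hy : Coalgebra.comul (R := k) y = y ⊗ₜ[k] (1 : A) + (1 : A) ⊗ₜ[k] y := by
    have h5 := congrArg (MvPolynomial.aeval (![x ⊗ₜ[k] (1 : A), (1 : A) ⊗ₜ[k] x])) hId
    rw [map_add, ← Polynomial.aeval_algHom_apply, ← Polynomial.aeval_algHom_apply, ← Polynomial.aeval_algHom_apply,
      map_add, MvPolynomial.aeval_X, MvPolynomial.aeval_X] at h5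
    simp only [Matrix.cons_val_zero, Matrix.cons_val_one] at h5
    show Bialgebra.comulAlgHom k A y = _
    rw [← Polynomial.aeval_algHom_apply, Bialgebra.comulAlgHom_apply, hx, h5,
      show x ⊗ₜ[k] (1 : A) = (Algebra.TensorProduct.includeLeft : A →ₐ[k] A ⊗[k] A) x from rfl,
      show (1 : A) ⊗ₜ[k] x = (Algebra.TensorProduct.includeRight : A →ₐ[k] A ⊗[k] A) x from rfl,
      Polynomial.aeval_algHom_apply, Polynomial.aeval_algHom_apply]
    rfl
  have hπy : π y = 0 := by
    haveI : IsArtinianRing A' := IsArtinianRing.of_finite k A'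
    have hz : π y ∈ nilradical A' := by
      rw [nilradical_eq_sInf]
      refine Ideal.mem_sInf.2 fun {p} hp => ?_
      haveI : p.IsPrime := hp
      haveI : p.IsMaximal := inferInstance
      letI := Ideal.Quotient.field p
      let f : A' →ₐ[k] k := ((IsAlgClosed.lift : (A' ⧸ p) →ₐ[k] k)).comp (Ideal.Quotient.mkₐ k p)
      have hf : f (π y) = 0 := by
        show (f.comp (π : A →ₐ[k] A')) (Polynomial.aeval x P) = 0
        rw [← Polynomial.aeval_algHom_apply, Polynomial.coe_aeval_eq_eval]
        exact hroot _ (Finset.mem_image.2 ⟨f, Finset.mem_univ _, rfl⟩)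
      exact Ideal.Quotient.eq_zero_iff_mem.1 ((IsAlgClosed.lift : (A' ⧸ p) →ₐ[k] k).toRingHom.injective
        (hf.trans (map_zero _).symm))
    rw [nilradical_eq_zero] at hz
    exact (Submodule.mem_bot _).1 hz
  have hy0 : Polynomial.aeval x P = 0 := h y hy hπy
  have hint : IsIntegral k x := ⟨P, hmonic, hy0⟩
  obtain ⟨c, hc⟩ := minpoly.mem_range_of_degree_eq_one k x
    (IsAlgClosed.degree_eq_one_of_irreducible k (minpoly.irreducible hint))
  subst hc
  have h1 := counit_primitive _ hx
  rw [← Bialgebra.counitAlgHom_apply, AlgHom.commutes, Algebra.algebraMap_self, RingHom.id_apply] at h1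
  rw [h1, map_zero]

end Groth.Agent.TorusQuot
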