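import Groth.Agent.TorusQuotLib.Univ
import Groth.Agent.TorusQuotLib.Kill
import Groth.Agent.FpqcDesc.Stalk
import Groth.Agent.MonoFibre.AffineKernel
import Groth.Agent.MaxTorus.Basic

/-!
Quotients of a group lying over its universal torus.
-/

set_option autoImplicit false
set_option backward.isDefEq.respectTransparency false
set_option backward.isDefEq.respectTransparency.types false
set_option linter.unusedSectionVars false
set_option linter.style.haveILetI false
set_option maxHeartbeats 1000000
set_option synthInstance.maxHeartbeats 400000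

universe u

open CategoryTheory CategoryTheory.Limits MonoidalCategory CartesianMonoidalCategory MonObj GrpObj AlgebraicGeometry

noncomputable section

attribute [-instance] CategoryTheory.Hom.commGroup

namespace Groth.Agent.TorusQuot

variable {k : Type u} [Field k]

/-- A quotient of a group over its universal torus by a part of the kernel. -/
structure Setup (G : Over (Spec (CommRingCat.of k))) [GrpObj G] {r : ℕ}
    (q : G ⟶ Red.DS (Spec (CommRingCat.of k)) (Fin r → ℤ)) {H : Over (Spec (CommRingCat.of k))} [GrpObj H]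
    (h : H ⟶ G) {K : Over (Spec (CommRingCat.of k))} [GrpObj K] (κ : K ⟶ H) where
  /-- the quotient -/
  Q : Over (Spec (CommRingCat.of k))
  [grpQ : GrpObj Q]
  /-- the projection -/
  p : G ⟶ Q
  /-- the map to the torus -/
  p' : Q ⟶ Red.DS (Spec (CommRingCat.of k)) (Fin r → ℤ)
  /-- the kernel -/
  N : Over (Spec (CommRingCat.of k))
  [grpN : GrpObj N]
  /-- its inclusion -/
  n : N ⟶ Q
  /-- the projection of the kernels -/
  pN : H ⟶ N
  [isMonHom_p : IsMonHom p]
  [isMonHom_p' : IsMonHom p']
  [isMonHom_n : IsMonHom n]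
  [isMonHom_pN : IsMonHom pN]
  [lft : LocallyOfFiniteType Q.hom]
  [qc : QuasiCompact Q.hom]
  [flat_p : Flat p.left]
  [surj_p : Surjective p.left]
  [flat_p' : Flat p'.left]
  [surj_p' : Surjective p'.left]
  [closed_n : IsClosedImmersion n.left]
  [flat_pN : Flat pN.left]
  [surj_pN : Surjective pN.left]
  [lfp_pN : LocallyOfFinitePresentation pN.left]
  kerP : AlgGrp.IsKernel (κ ≫ h) p
  kerP' : AlgGrp.IsKernel n p'
  kerN : AlgGrp.IsKernel κ pN
  fac : p ≫ p' = q
  facN : pN ≫ n = h ≫ p
  connected : ConnectedSpace ↥Q.left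
  reduced : IsReduced Q.left

attribute [instance] Setup.grpQ Setup.grpN Setup.isMonHom_p Setup.isMonHom_p' Setup.isMonHom_n Setup.isMonHom_pN
  Setup.lft Setup.qc Setup.flat_p Setup.surj_p Setup.flat_p' Setup.surj_p' Setup.closed_n Setup.flat_pN
  Setup.surj_pN Setup.lfp_pN Setup.connected Setup.reduced

variable (G : Over (Spec (CommRingCat.of k))) [GrpObj G] [LocallyOfFiniteType G.hom] [QuasiCompact G.hom]
  [ConnectedSpace ↥G.left] [IsReduced G.left] {r : ℕ} (q : G ⟶ Red.DS (Spec (CommRingCat.of k)) (Fin r → ℤ))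
  [IsMonHom q] [Flat q.left] [Surjective q.left]
  {H : Over (Spec (CommRingCat.of k))} [GrpObj H] (h : H ⟶ G) [IsMonHom h] (hh : AlgGrp.IsKernel h q)
  {K : Over (Spec (CommRingCat.of k))} [GrpObj K] (κ : K ⟶ H) [IsMonHom κ]

include hh in
theorem exists_setup [IsClosedImmersion (κ ≫ h).left] (hN : AlgGrp.IsNormalHom (κ ≫ h)) :
    Nonempty (Setup G q h κ) := by
  obtain ⟨Q, _, p, hp, hsep, hlft, hqc, hps, hpf, hpl, hpk⟩ := GrpQuotLib.exists_quotientGrp_field K G (κ ≫ h) hN
  haveI := hp; haveI := hsep; haveI := hlft; haveI := hqc; haveI := hps; haveI := hpf; haveI := hpl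
  obtain ⟨p', hp', hpp'⟩ := exists_desc_hom p hpk q (by rw [Category.assoc, kernel_comp_eq_one hh, MonObj.comp_one])
  haveI := hp'
  haveI : Surjective p'.left := by
    haveI : Surjective (p.left ≫ p'.left) := by rw [← Over.comp_left, hpp']; infer_instance
    exact Surjective.of_comp p.left p'.left
  haveI : Flat p'.left := by
    haveI : Flat (p.left ≫ p'.left) := by rw [← Over.comp_left, hpp']; infer_instance
    exact FlatDescStalk.flat_of_comp p.left p'.left
  haveI : LocallyOfFiniteType (Red.DS (Spec (CommRingCat.of k)) (Fin r → ℤ)).hom :=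
    MonoFibre.locallyOfFiniteType_DS _ _ inferInstance
  obtain ⟨N, _, n, hn, hnc, hnk⟩ := exists_kernel p'
  haveI := hn; haveI := hnc
  haveI : Mono n := Over.mono_of_mono_left n
  obtain ⟨pN, hpN⟩ := exists_lift_kernel hnk (x := h ≫ p) (by rw [Category.assoc, hpp', kernel_comp_eq_one hh])
  haveI : IsMonHom pN := GaDualLib.AlphaExt.isMonHom_of_mul pN fun a b => by
    rw [← cancel_mono n, MonObj.mul_comp _ _ n, Category.assoc, hpN, Category.assoc, hpN, Category.assoc, hpN, MonObj.mul_comp]
  have sq : IsPullback h pN p n := by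
    refine IsPullback.of_bot (v₂₁ := toUnit N) (v₂₂ := p') (h₃₁ := η[Red.DS (Spec (CommRingCat.of k)) (Fin r → ℤ)]) ?_
      hpN.symm hnk
    rw [hpp', toUnit_unique (pN ≫ toUnit N) (toUnit H)]
    exact hh
  have sqL := sq.map (Over.forget _)
  haveI : Flat pN.left := MorphismProperty.of_isPullback sqL hpf
  haveI : Surjective pN.left := MorphismProperty.of_isPullback sqL hps
  haveI : LocallyOfFinitePresentation pN.left := MorphismProperty.of_isPullback sqL hpl
  have hkN : AlgGrp.IsKernel κ pN := by
    have s : IsPullback (κ ≫ h) (toUnit K) p (η[N] ≫ n) := by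
      rw [IsMonHom.one_hom n]; exact hpk
    refine IsPullback.of_right s ?_ sq
    rw [← cancel_mono n, Category.assoc, hpN, Category.assoc, IsMonHom.one_hom n, ← Category.assoc]
    exact hpk.w
  haveI : ConnectedSpace ↥Q.left := p.left.surjective.connectedSpace p.left.continuous
  haveI : IsReduced Q.left := FlatDescStalk.isReduced_of_flat_surjective p.left
  exact ⟨{ Q := Q, p := p, p' := p', N := N, n := n, pN := pN, kerP := hpk, kerP' := hnk, kerN := hkN, fac := hpp',
           facN := hpN, connected := inferInstance, reduced := inferInstance }⟩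

variable {G q h κ} (D : Setup G q h κ)

theorem exists_preimage {X : Over (Spec (CommRingCat.of k))} (z : X ⟶ D.Q) (hz : z ≫ D.p' = 1) :
    ∃ w : X ⟶ D.N, w ≫ D.n = z := exists_lift_kernel D.kerP' hz

theorem isTorus_DS : Red.IsTorus (Red.DS (Spec (CommRingCat.of k)) (Fin r → ℤ)) :=
  MaxTorus.isTorus_of_split ⟨Iso.refl _⟩

/-- Commutativity from centrality of the kernel. -/
theorem Setup.comm (hc : ∀ (T : Over (Spec (CommRingCat.of k))) (g : T ⟶ D.Q) (z : T ⟶ D.N),
      g * (z ≫ D.n) = (z ≫ D.n) * g)
    (X : Over (Spec (CommRingCat.of k))) (a b : X ⟶ D.Q) : a * b = b * a := by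
  refine MultExtCentral.comm_of_torus _ D.Q isTorus_DS D.p' (fun X' z hz X'' x g => ?_) X a b
  obtain ⟨w, rfl⟩ := exists_preimage D z hz
  rw [← Category.assoc]
  exact (hc _ g (x ≫ w)).symm

theorem Setup.isAffine [IsAffine D.N.left] : IsAffine D.Q.left := by
  let T := Red.DS (Spec (CommRingCat.of k)) (Fin r → ℤ)
  haveI : IsAffineHom T.hom := FixedSmooth.isAffineHom_DS _ _
  haveI : IsAffine T.left := isAffine_of_isAffineHom T.hom
  haveI : QuasiCompact D.p'.left := by
    haveI : QuasiCompact (D.p'.left ≫ T.hom) := by rw [Over.w D.p']; infer_instance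
    exact QuasiCompact.of_comp D.p'.left T.hom
  haveI : IsAffine (pullback D.p' η[T]).left := by
    haveI : IsIso (D.kerP'.isoPullback.hom.left) := ((Over.forget _).mapIso D.kerP'.isoPullback).isIso_hom
    exact IsAffine.of_isIso (inv D.kerP'.isoPullback.hom.left)
  haveI := MonoFibre.isAffineHom_of_affine_kernel D.p'
  exact isAffine_of_isAffineHom D.p'.left

include hh in
/-- If the quotient has no primitive elements it is the torus: the subgroup is the whole kernel. -/
theorem Setup.exists_retraction [IsAlgClosed k] [Mono h]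
    (hu : ∀ χ : G ⟶ Red.Gm (Spec (CommRingCat.of k)), IsMonHom χ →
      ∃ m : Fin r → ℤ, q ≫ Red.chi (Spec (CommRingCat.of k)) m = χ)
    (hcomm : ∀ (X : Over (Spec (CommRingCat.of k))) (a b : X ⟶ D.Q), a * b = b * a)
    {A : Type u} [CommRing A] [HopfAlgebra k A] (eA : TorusField.specGrp k A ≅ Grp.mk D.Q)
    (hprim : ∀ x : A, Coalgebra.comul (R := k) x = TensorProduct.tmul k x (1 : A) + TensorProduct.tmul k (1 : A) x → x = 0) :
    ∃ l : H ⟶ K, l ≫ κ = 𝟙 H := by
  have h1 : h ≫ D.p = 1 := eq_one_of_chars hcomm eA hprim _ fun χ hχ => by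
    haveI := hχ
    obtain ⟨m, hm⟩ := hu (D.p ≫ χ) inferInstance
    haveI : IsMonHom (Red.chi (Spec (CommRingCat.of k)) m) := DSMapLib.isMonHom_DSmap _ _
    rw [Category.assoc, ← hm, ← Category.assoc, kernel_comp_eq_one hh, MonObj.one_comp]
  obtain ⟨l, hl⟩ := exists_lift_kernel D.kerP h1
  exact ⟨l, (cancel_mono h).1 (by rw [Category.assoc, hl, Category.id_comp])⟩

end Groth.Agent.TorusQuot
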