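import Groth.Agent.TorusQuotLib.Chars
import Groth.Agent.GrpQuotLib.FieldQuot
import Groth.Agent.GrpQuotLib.KerGrp
import Groth.Agent.GenSubLib.AlgClosed
import Groth.Agent.MaxTorus.ImageLocal
import Groth.Agent.MonoFibre.MonoAffine
import Groth.Agent.MonoFibre.MultType
import Groth.Agent.DSHomField.Main
import Groth.Agent.MultClosed.Points

/-!
The universal map to a torus is faithfully flat.
-/

set_option autoImplicit false
set_option backward.isDefEq.respectTransparency false
set_option backward.isDefEq.respectTransparency.types false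
set_option linter.unusedSectionVars false
set_option linter.style.haveILetI false
set_option maxHeartbeats 1000000
set_option synthInstance.maxHeartbeats 400000

universe u

open CategoryTheory CategoryTheory.Limits MonoidalCategory CartesianMonoidalCategory MonObj GrpObj AlgebraicGeometry

noncomputable section

attribute [-instance] CategoryTheory.Hom.commGroup

namespace Groth.Agent.TorusQuot

open DSMapLib

variable {k : Type u} [Field k]

/-- Maps from a reduced scheme which agree on rational points are equal. -/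
theorem ext_pts [IsAlgClosed k] {X Y : Over (Spec (CommRingCat.of k))} [IsReduced X.left] [LocallyOfFiniteType X.hom]
    [IsSeparated Y.hom] [LocallyOfFiniteType Y.hom] {f g : X ⟶ Y}
    (h : ∀ x : 𝟙_ (Over (Spec (CommRingCat.of k))) ⟶ X, x ≫ f = x ≫ g) : f = g := by
  haveI : LocallyOfFiniteType (f.left ≫ Y.hom) := by rw [Over.w f]; infer_instance
  refine Over.OverMorphism.ext (ext_of_apply_eq Y.hom Set.univ isClosed_univ.isLocallyClosed dense_univ
    (fun x _ hx => ?_) (by rw [Over.w f, Over.w g]))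
  obtain ⟨σ, hσ⟩ := GenSubLib.exists_pt hx
  rw [← hσ, ← Scheme.Hom.comp_apply, ← Scheme.Hom.comp_apply, ← Over.comp_left, ← Over.comp_left, h]

/-- A flat surjective map of finite type schemes over a field is an fpqc covering. -/
theorem isFpqc_of_field {E Q : Over (Spec (CommRingCat.of k))} (p : E ⟶ Q) [Flat p.left] [Surjective p.left]
    [LocallyOfFiniteType E.hom] [LocallyOfFiniteType Q.hom] : SchDesc.IsFpqc p.left := by
  haveI : IsLocallyNoetherian Q.left := LocallyOfFiniteType.isLocallyNoetherian Q.hom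
  haveI : LocallyOfFiniteType (p.left ≫ Q.hom) := by rw [Over.w p]; infer_instance
  haveI : LocallyOfFiniteType p.left := locallyOfFiniteType_of_comp p.left Q.hom
  haveI : LocallyOfFinitePresentation p.left := LocallyOfFinitePresentation.iff_locallyOfFiniteType.2 inferInstance
  exact SchDesc.IsFpqc.of_locallyOfFinitePresentation p.left

/-- A kernel is normal. -/
theorem isNormalHom_kernel {N G Q : Over (Spec (CommRingCat.of k))} [GrpObj N] [GrpObj G] [GrpObj Q] {i : N ⟶ G}
    {q : G ⟶ Q} [IsMonHom q] (h : AlgGrp.IsKernel i q) : AlgGrp.IsNormalHom i := fun T g n => by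
  have hn : (n ≫ i) ≫ q = 1 := by
    rw [Category.assoc, h.w, Hom.one_def, ← Category.assoc, toUnit_unique (n ≫ toUnit N) (toUnit T)]
  refine ⟨h.lift (g * (n ≫ i) * g⁻¹) (toUnit T) ?_, (h.lift_fst _ _ _).symm⟩
  rw [MonObj.mul_comp, MonObj.mul_comp, GrpObj.inv_comp, hn, _root_.mul_one, mul_inv_cancel, Hom.one_def]

theorem exists_lift_kernel {N G Q T : Over (Spec (CommRingCat.of k))} [GrpObj Q] {i : N ⟶ G} {q : G ⟶ Q}
    (h : AlgGrp.IsKernel i q) {x : T ⟶ G} (hx : x ≫ q = 1) : ∃ z : T ⟶ N, z ≫ i = x :=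
  ⟨h.lift x (toUnit T) (hx.trans Hom.one_def), h.lift_fst _ _ _⟩

theorem kernel_comp_eq_one {N G Q : Over (Spec (CommRingCat.of k))} [GrpObj Q] {i : N ⟶ G} {q : G ⟶ Q}
    (h : AlgGrp.IsKernel i q) : i ≫ q = 1 := h.w.trans Hom.one_def.symm

/-- The scheme-theoretic kernel. -/
theorem exists_kernel {G Q : Over (Spec (CommRingCat.of k))} [GrpObj G] [GrpObj Q] (q : G ⟶ Q) [IsMonHom q]
    [LocallyOfFiniteType Q.hom] :
    ∃ (N : Over (Spec (CommRingCat.of k))) (_ : GrpObj N) (i : N ⟶ G), IsMonHom i ∧ IsClosedImmersion i.left ∧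
      AlgGrp.IsKernel i q := by
  obtain ⟨hN, hi⟩ := GrpQuotLib.exists_grpObj_kernel q
  refine ⟨pullback q η[Q], hN, pullback.fst q η[Q], hi, ?_, ?_⟩
  · haveI := GrpSchLib.isClosedImmersion_unit (G := Q)
    exact MorphismProperty.of_isPullback ((IsPullback.of_hasPullback q η[Q]).map (Over.forget _)).flip ‹_›
  · show IsPullback (pullback.fst q η[Q]) (toUnit _) q η[Q]
    rw [toUnit_unique (toUnit (pullback q η[Q])) (pullback.snd q η[Q])]
    exact IsPullback.of_hasPullback q η[Q]

/-- Maps killing the kernel descend. -/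
theorem exists_desc_hom {N G Q W : Over (Spec (CommRingCat.of k))} [GrpObj N] [GrpObj G] [GrpObj Q] [GrpObj W]
    {i : N ⟶ G} (p : G ⟶ Q) [IsMonHom p] [Flat p.left] [Surjective p.left] [LocallyOfFiniteType G.hom]
    [LocallyOfFiniteType Q.hom] (hp : AlgGrp.IsKernel i p) (f : G ⟶ W) [IsMonHom f] (hf : i ≫ f = 1) :
    ∃ g : Q ⟶ W, IsMonHom g ∧ p ≫ g = f := by
  haveI := isFpqc_of_field p
  obtain ⟨g, hg⟩ := GrpQuotLib.exists_desc p f fun T a b e => by
    obtain ⟨z, hz⟩ := exists_lift_kernel hp (x := a⁻¹ * b) (by rw [MonObj.mul_comp, GrpObj.inv_comp, e, inv_mul_cancel])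
    have h1 : (a⁻¹ * b) ≫ f = 1 := by rw [← hz, Category.assoc, hf, MonObj.comp_one]
    rwa [MonObj.mul_comp, GrpObj.inv_comp, inv_mul_eq_one] at h1
  refine ⟨g, GaDualLib.AlphaExt.isMonHom_of_mul g fun {T} a b => ?_, hg⟩
  obtain ⟨T₁, c₁, a', hc₁, ha⟩ := GrpQuotLib.exists_lift_fpqc p a
  obtain ⟨T₂, c₂, b', hc₂, hb⟩ := GrpQuotLib.exists_lift_fpqc p (c₁ ≫ b)
  haveI := hc₁
  haveI := hc₂
  haveI : Epi c₁ := GrpQuotLib.epi_of_isFpqc c₁
  haveI : Epi c₂ := GrpQuotLib.epi_of_isFpqc c₂
  rw [← cancel_epi c₁, ← cancel_epi c₂]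
  simp only [MonObj.comp_mul, ← Category.assoc]
  rw [show (c₂ ≫ c₁) ≫ a = (c₂ ≫ a') ≫ p by rw [Category.assoc, ha, Category.assoc],
    show (c₂ ≫ c₁) ≫ b = b' ≫ p by rw [Category.assoc, hb], ← MonObj.mul_comp, Category.assoc, hg,
    MonObj.mul_comp, Category.assoc, Category.assoc, Category.assoc, Category.assoc, hg]

/-- A closed subgroup of a torus containing the image of an injective family of characters is everything. -/
theorem isIso_of_dominant [IsAlgClosed k] {G : Over (Spec (CommRingCat.of k))} [GrpObj G] [IsReduced G.left]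
    [LocallyOfFiniteType G.hom] {M : Type} [AddCommGroup M] [AddGroup.FG M]
    (q : G ⟶ Red.DS (Spec (CommRingCat.of k)) M) [IsMonHom q]
    (hq : Function.Injective fun m : M => q ≫ Red.chi (Spec (CommRingCat.of k)) m)
    {Q : Over (Spec (CommRingCat.of k))} (u : Q ⟶ Red.DS (Spec (CommRingCat.of k)) M) [IsClosedImmersion u.left]
    (v : G ⟶ Q) (hv : v ≫ u = q) : IsIso u := by
  let S := Spec (CommRingCat.of k)
  haveI : Mono u := Over.mono_of_mono_left u
  haveI : IsAffineHom (Red.DS S M).hom := FixedSmooth.isAffineHom_DS _ _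
  haveI : LocallyOfFiniteType (Red.Gm S).hom := MonoFibre.locallyOfFiniteType_DS _ _ inferInstance
  haveI : IsAffineHom (Red.Gm S).hom := FixedSmooth.isAffineHom_DS _ _
  let q₀ := Spec.map (DSHomField.gk k M)
  let a : Over.mk q₀ ⟶ Red.DS S M := dsPt M q₀ (DSHomField.univChar k M)
  -- the ideal
  haveI : IsClosedImmersion (pullback.fst a.left u.left) := MorphismProperty.pullback_fst _ _ ‹_›
  obtain ⟨I, hI⟩ : ∃ I : Ideal (MonoidAlgebra k (Multiplicative M)), ∃ e : pullback a.left u.left ≅
      Spec (CommRingCat.of (MonoidAlgebra k (Multiplicative M) ⧸ I)),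
      pullback.fst a.left u.left = e.hom ≫ Spec.map (CommRingCat.ofHom (Ideal.Quotient.mk I)) :=
    IsClosedImmersion.Spec_iff.1 ‹_›
  obtain ⟨e, he⟩ := hI
  -- rational points and their characters
  let pt : (𝟙_ (Over S) ⟶ G) → (Multiplicative M →* k) := fun g =>
    (dsPt (B := CommRingCat.of k) M (𝟙 S)).symm (g ≫ q)
  have hpt : ∀ g (f : MonoidAlgebra k (Multiplicative M)), f ∈ I →
      MonoidAlgebra.lift k k (Multiplicative M) (pt g) f = 0 := fun g f hf => by
    let L' : CommRingCat.of (MonoidAlgebra k (Multiplicative M)) ⟶ CommRingCat.of k :=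
      CommRingCat.ofHom (MonoidAlgebra.lift k k (Multiplicative M) (pt g)).toRingHom
    have eL : Spec.map L' ≫ q₀ = 𝟙 S := by
      rw [← Spec.map_comp]
      refine (congrArg Spec.map (CommRingCat.hom_ext (RingHom.ext fun c => ?_))).trans (Spec.map_id _)
      simp [L', DSHomField.gk]
    let c : Over.mk (𝟙 S) ⟶ Over.mk q₀ := Over.homMk (Spec.map L') eL
    have hc : c ≫ a = g ≫ q := by
      refine (MultClosed.dsPt_nat q₀ (𝟙 S) L' eL _).trans ?_
      refine Eq.trans (congrArg _ ?_) ((dsPt (B := CommRingCat.of k) M (𝟙 S)).apply_symm_apply (g ≫ q))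
      ext m
      simp [L', pt]
    have hl : (Spec.map L') ≫ a.left = (g ≫ v).left ≫ u.left := by
      have := congrArg Over.Hom.left hc
      rw [← hv, ← Category.assoc, Over.comp_left, Over.comp_left] at this
      exact this
    have h1 : (pullback.lift (Spec.map L') (g ≫ v).left hl ≫ e.hom) ≫ Spec.map (CommRingCat.ofHom (Ideal.Quotient.mk I)) =
        Spec.map L' := by
      rw [Category.assoc, ← he, pullback.lift_fst]
    obtain ⟨ρ, hρ⟩ := Spec.map_surjective (pullback.lift (Spec.map L') (g ≫ v).left hl ≫ e.hom)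
    rw [← hρ, ← Spec.map_comp] at h1
    have h2 := congr($(Spec.map_injective h1) f)
    simp only [CommRingCat.hom_comp, CommRingCat.hom_ofHom, RingHom.comp_apply, Ideal.Quotient.eq_zero_iff_mem.2 hf,
      map_zero, L'] at h2
    exact h2.symm
  have hbot : I = ⊥ := by
    refine (Submodule.eq_bot_iff _).2 fun f hf => ?_
    let F : M → ((𝟙_ (Over S) ⟶ G) →* k) := fun m =>
      { toFun := fun g => pt g (Multiplicative.ofAdd m)
        map_one' := by simp only [pt, MonObj.one_comp, map_one, MonoidHom.one_apply]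
        map_mul' := fun g g' => by simp only [pt, MonObj.mul_comp, map_mul, MonoidHom.mul_apply] }
    have hF : Function.Injective F := fun m m' h => hq (ext_pts fun g => by
      obtain ⟨χ, hχ⟩ := (dsPt (B := CommRingCat.of k) M (𝟙 S)).surjective (g ≫ q)
      have h1 : χ (Multiplicative.ofAdd m) = χ (Multiplicative.ofAdd m') := by
        have h2 : pt g (Multiplicative.ofAdd m) = pt g (Multiplicative.ofAdd m') := DFunLike.congr_fun h g
        simp only [pt] at h2
        rw [← hχ, MulEquiv.symm_apply_apply] at h2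
        exact h2
      show g ≫ q ≫ Red.chi S m = g ≫ q ≫ Red.chi S m'
      rw [← Category.assoc, ← Category.assoc]
      refine (congrArg (· ≫ Red.chi S m) hχ.symm).trans (Eq.trans ?_ (congrArg (· ≫ Red.chi S m') hχ))
      rw [Red.chi, Red.chi, dsPt_comp, dsPt_comp]
      congr 1
      apply MonoidHom.ext_mint
      show χ (Multiplicative.ofAdd ((1 : ℤ) • m)) = χ (Multiplicative.ofAdd ((1 : ℤ) • m'))
      rw [one_zsmul, one_zsmul, h1])
    have hli := (linearIndependent_monoidHom (𝟙_ (Over S) ⟶ G) k).comp F hF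
    let c : M →₀ k := (MonoidAlgebra.coeff f).equivMapDomain Multiplicative.toAdd
    have h3 : Finsupp.linearCombination k (fun m => ((F m : (𝟙_ (Over S) ⟶ G) →* k) : (𝟙_ (Over S) ⟶ G) → k)) c = 0 := by
      funext g
      rw [Finsupp.linearCombination_equivMapDomain, Finsupp.linearCombination_apply, Finsupp.sum, Finset.sum_apply,
        Pi.zero_apply]
      refine Eq.trans ?_ (hpt g f hf)
      rw [MonoidAlgebra.lift_apply, Finsupp.sum]
      exact Finset.sum_congr rfl fun m _ => by simp [F, smul_eq_mul]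
    have h4 : c = 0 := linearIndependent_iff.1 hli c h3
    ext m
    have h5 := DFunLike.congr_fun h4 (Multiplicative.toAdd m)
    simpa [c] using h5
  subst hbot
  haveI : IsIso (pullback.fst a.left u.left) := by
    rw [he]
    haveI : IsIso (Spec.map (CommRingCat.ofHom
        (Ideal.Quotient.mk (⊥ : Ideal (MonoidAlgebra k (Multiplicative M)))))) := by
      haveI : IsIso (CommRingCat.ofHom (Ideal.Quotient.mk (⊥ : Ideal (MonoidAlgebra k (Multiplicative M))))) :=
        (ConcreteCategory.isIso_iff_bijective _).2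
          ⟨fun x y h => sub_eq_zero.1 ((Submodule.mem_bot _).1 (Ideal.Quotient.eq.1 h)), Ideal.Quotient.mk_surjective⟩
      infer_instance
    infer_instance
  let w : Over.mk q₀ ⟶ Q := Over.homMk (inv (pullback.fst a.left u.left) ≫ pullback.snd a.left u.left) (by
    rw [← Over.w u, Category.assoc, ← pullback.condition_assoc, IsIso.inv_hom_id_assoc, Over.w a])
  have hw : w ≫ u = a := Over.OverMorphism.ext (by
    show (inv _ ≫ pullback.snd _ _) ≫ u.left = a.left
    rw [Category.assoc, ← pullback.condition, IsIso.inv_hom_id_assoc])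
  obtain ⟨s, hs⟩ := exists_lift_of_affine u (𝟙 _) fun B p x => by
    obtain ⟨χ, hχ⟩ := (dsPt M p).surjective x
    obtain ⟨g, rfl⟩ := Spec.map_surjective p
    let L' : CommRingCat.of (MonoidAlgebra k (Multiplicative M)) ⟶ B := CommRingCat.ofHom (FixedSmooth.L g.hom χ)
    have eL : Spec.map L' ≫ q₀ = Spec.map g := by
      rw [← Spec.map_comp]
      congr 1
      exact CommRingCat.hom_ext (FixedSmooth.L_comp_single g.hom χ)
    refine ⟨(Over.homMk (Spec.map L') eL : Over.mk (Spec.map g) ⟶ Over.mk q₀) ≫ w, ?_⟩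
    rw [Category.assoc, hw, Category.comp_id, ← hχ]
    refine (MultClosed.dsPt_nat q₀ _ L' eL _).trans (congrArg _ (MonoidHom.ext fun m => ?_))
    simp [L', FixedSmooth.L]
  exact ⟨s, by rw [← cancel_mono u, Category.assoc, hs, Category.comp_id, Category.id_comp], hs⟩

/-- The universal map to a torus. -/
theorem exists_univ [IsAlgClosed k] (G : Over (Spec (CommRingCat.of k))) [GrpObj G] [Smooth G.hom]
    [QuasiCompact G.hom] [ConnectedSpace ↥G.left] :
    ∃ (r : ℕ) (q : G ⟶ Red.DS (Spec (CommRingCat.of k)) (Fin r → ℤ)), IsMonHom q ∧ Flat q.left ∧ Surjective q.left ∧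
      ∀ χ : G ⟶ Red.Gm (Spec (CommRingCat.of k)), IsMonHom χ →
        ∃ m : Fin r → ℤ, q ≫ Red.chi (Spec (CommRingCat.of k)) m = χ := by
  obtain ⟨r, e, he, hmem⟩ := exists_char_basis G
  obtain ⟨q, hq, hqm⟩ := exists_hom e fun m => (hmem _).2 ⟨m, rfl⟩
  haveI := hq
  haveI := isIntegral_grp G
  let T := Red.DS (Spec (CommRingCat.of k)) (Fin r → ℤ)
  haveI : IsAffineHom T.hom := FixedSmooth.isAffineHom_DS _ _
  haveI : IsAffine T.left := isAffine_of_isAffineHom T.hom
  haveI : LocallyOfFiniteType T.hom := MonoFibre.locallyOfFiniteType_DS _ _ inferInstance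
  obtain ⟨K, _, i, hi, hic, hK⟩ := exists_kernel q
  haveI := hi
  haveI := hic
  obtain ⟨Q, _, p, hp, hsep, hlft, hqc, hps, hpf, -, hpk⟩ :=
    GrpQuotLib.exists_quotientGrp_field K G i (isNormalHom_kernel hK)
  haveI := hp
  haveI := hsep
  haveI := hlft
  haveI := hqc
  haveI := hps
  haveI := hpf
  obtain ⟨u, hu, hpu⟩ := exists_desc_hom p hpk q (kernel_comp_eq_one hK)
  haveI := hu
  haveI : Mono u := MaxTorus.mono_of_ker u fun {Y} y hy => by
    haveI := isFpqc_of_field p
    obtain ⟨Y', c, g, hc, hg⟩ := GrpQuotLib.exists_lift_fpqc p y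
    haveI := hc
    haveI : Epi c := GrpQuotLib.epi_of_isFpqc c
    rw [← cancel_epi c, MonObj.comp_one, hg]
    obtain ⟨z, hz⟩ := exists_lift_kernel hK (x := g) (by
      rw [← hpu, ← Category.assoc, ← hg, Category.assoc, hy, MonObj.comp_one])
    rw [← hz, Category.assoc, kernel_comp_eq_one hpk, MonObj.comp_one]
  haveI : QuasiCompact u.left := by
    haveI : QuasiCompact (u.left ≫ T.hom) := by rw [Over.w u]; infer_instance
    exact QuasiCompact.of_comp u.left T.hom
  haveI : IsClosedImmersion u.left := MonoFibre.isClosedImmersion_of_mono u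
  haveI : IsIso u := isIso_of_dominant q (fun m m' h => by
    simp only [hqm] at h
    exact Multiplicative.ofAdd.injective (he h)) u p hpu
  haveI : IsIso u.left := ((Over.forget _).mapIso (asIso u)).isIso_hom
  refine ⟨r, q, hq, ?_, ?_, fun χ hχ => ?_⟩
  · rw [← hpu, Over.comp_left]; infer_instance
  · rw [← hpu, Over.comp_left]; infer_instance
  · obtain ⟨m, rfl⟩ := (hmem χ).1 hχ
    exact ⟨m.toAdd, hqm _⟩

end Groth.Agent.TorusQuot
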